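import Groth.Agent.EtModLib.ExtZeroResolve
import Mathlib.RingTheory.Flat.Basic
import Mathlib.Algebra.DirectSum.Module

/-! finite sums of `j_! Λ` have flat stalks -/

universe u

open CategoryTheory CategoryTheory.Limits AlgebraicGeometry Opposite
open Groth.Agent.EtFound (PtsOver extZeroι extZeroCofanIsColimit)

namespace Groth.Agent.EtFlat51

set_option backward.isDefEq.respectTransparency.types false

variable {Λ : Type (u + 1)} [CommRing Λ] {X : Scheme.{u}}

theorem flat_of_iso {M N : ModuleCat.{u + 1} Λ} (e : M ≅ N) [Module.Flat Λ N] : Module.Flat Λ M :=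
  Module.Flat.of_linearEquiv e.toLinearEquiv

/-- colimit cofans of flat modules are flat -/
theorem flat_of_cofan {ι : Type*} [Fintype ι] [Small.{u + 1} ι] {Z : ι → ModuleCat.{u + 1} Λ} (c : Cofan Z) (hc : IsColimit c)
    (h : ∀ i, Module.Flat Λ (Z i)) : Module.Flat Λ c.pt := by
  classical
  let D := ModuleCat.of Λ (Shrink.{u + 1} (∀ i, Z i))
  let e : D ≃ₗ[Λ] DirectSum ι fun i => Z i :=
    (Shrink.linearEquiv Λ (∀ i, Z i)).trans (DirectSum.linearEquivFunOnFintype Λ ι fun i => Z i).symm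
  let m := hc.desc (Cofan.mk D fun i => ModuleCat.ofHom (e.symm.toLinearMap ∘ₗ DirectSum.lof Λ ι (fun i => Z i) i))
  refine Module.Flat.of_retract (e.toLinearMap ∘ₗ m.hom)
    (DirectSum.toModule Λ ι c.pt fun i => (c.inj i).hom) ?_
  have hid : m ≫ ModuleCat.ofHom (DirectSum.toModule Λ ι c.pt (fun i => (c.inj i).hom) ∘ₗ e.toLinearMap) = 𝟙 _ := by
    refine hc.hom_ext fun i => ModuleCat.hom_ext (LinearMap.ext fun x => ?_)
    change DirectSum.toModule Λ ι c.pt _ (e (m (c.inj i.as x))) = c.inj i.as x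
    have hm : m (c.inj i.as x) = e.symm (DirectSum.lof Λ ι (fun i => Z i) i.as x) :=
      ConcreteCategory.congr_hom (hc.fac _ i) x
    rw [hm, LinearEquiv.apply_symm_apply, DirectSum.toModule_lof]
  exact congrArg ModuleCat.Hom.hom hid

/-- stalks of the constant sheaf `Λ` are flat -/
theorem flat_stalk_constΛ {Ω : Type u} [Field Ω] [IsSepClosed Ω] (ξ : Spec (CommRingCat.of Ω) ⟶ X) :
    Module.Flat Λ ((EtModW.stalk Λ ξ).obj (EtSix.constΛ Λ X)) := by
  obtain ⟨z, -⟩ := Scheme.pointSmallEtaleFiberObjToPreimage_surjective ξ rfl (EtCoh.top X) ⟨ξ.base default, rfl⟩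
  let φ : Λ →ₗ[Λ] (EtModW.stalk Λ ξ).obj (EtSix.constΛ Λ X) :=
    ((toSheafify X.smallEtaleTopology ((Functor.const X.Etaleᵒᵖ).obj (ModuleCat.of Λ Λ))).app (op (EtCoh.top X)) ≫
      (Scheme.pointSmallEtale ξ).toPresheafFiber (EtCoh.top X) z (EtSix.constΛ Λ X).obj).hom
  have h := EtFound.toSheafify_const_germ_bijective ξ (ModuleCat.{u + 1} Λ) (ModuleCat.of Λ Λ) (EtCoh.top X) z
  exact Module.Flat.of_linearEquiv (LinearEquiv.ofBijective φ h).symm

/-- finite sums of `j_! Λ` have flat stalks -/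
theorem flat_stalk_of_isSumExtZero [QuasiSeparatedSpace X] {F : EtModW.Mod Λ X} (hF : EtModLib.IsSumExtZero F)
    {Ω : Type u} [Field Ω] [IsSepClosed Ω] (ξ : Spec (CommRingCat.of Ω) ⟶ X) :
    Module.Flat Λ ((EtModW.stalk Λ ξ).obj F) := by
  obtain ⟨m, U, j, hj, hU, H⟩ := hF
  haveI := hj
  haveI hJ : ∀ k, EtShriek.JCont (j k) := fun k => EtFound.jCont (j k)
  obtain ⟨e⟩ := @H hJ
  refine @flat_of_iso _ _ _ _ ((EtModW.stalk Λ ξ).mapIso e) ?_
  refine flat_of_cofan _ (isColimitCofanMkObjOfIsColimit (EtModW.stalk Λ ξ) _ _ (coproductIsCoproduct _)) fun k => ?_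
  haveI := hU k
  haveI : QuasiCompact (j k) := inferInstance
  haveI := EtFound.finite_ptsOver (j k) ξ
  letI := Fintype.ofFinite (PtsOver (j k) ξ)
  exact flat_of_cofan _ (extZeroCofanIsColimit (j k) ξ (EtSix.constΛ Λ (U k))) fun z => flat_stalk_constΛ z.1

end Groth.Agent.EtFlat51
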